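import Cfsg.Agent.Lib.FischerThm.Defs
import Cfsg.Agent.Lib.ThreeTranspositions.SimpleDerived
import Cfsg.Agent.S5346

/-!
# Fischer's theorem: the forms of S5369 and S5368 from the main theorem

A class with simple derived group has width one (and the group is the symmetric group of degree
three) or is primitive of width at least two.
-/

set_option autoImplicit false
set_option linter.style.haveILetI false
set_option linter.unusedSectionVars false

open scoped commutatorElement IsMulCommutative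

namespace Cfsg.Agent.Lib.FischerThm.Wrap

open Cfsg Cfsg.Agent.Lib.ThreeTranspositions Cfsg.Agent.Lib.FischerMTypes.Primitive

universe u

variable {G : Type u} [Group G] [Finite G] {D : Set G}

theorem three_sq : ∀ σ : Equiv.Perm (Fin 3), σ * σ = 1 → σ ≠ 1 → σ.IsSwap := by
  have h : ∀ σ : Equiv.Perm (Fin 3), σ * σ = 1 → σ ≠ 1 →
      ∃ x y, x ≠ y ∧ σ = Equiv.swap x y := by decide
  exact h

theorem three_conj : ∀ σ : Equiv.Perm (Fin 3), σ * σ = 1 → σ ≠ 1 →
    ∀ ρ : Equiv.Perm (Fin 3), ρ * ρ = 1 → ρ ≠ 1 → ∃ τ, τ * σ * τ⁻¹ = ρ := by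
  decide

theorem commutator_le_core (hD : IsThreeTranspositionClass D) {d : G} (hd : d ∈ D)
    (hw : ∀ a ∈ D, ∀ b ∈ D, Commute a b → a = b) : commutator G ≤ pCore 3 G := by
  have hgrp := isThreeTranspositionGroup_of_class hD
  have htop := (Cfsg.Agent.S5346.result hgrp hd).1
    ((width_eq_one_iff (isClosedSet_of_class hD) ⟨d, hd⟩).2 hw)
  have hq : ∀ x : G, QuotientGroup.mk' (pCore 3 G) x ∈
      Subgroup.zpowers (QuotientGroup.mk' (pCore 3 G) d) := by
    intro x
    have hx : x ∈ Subgroup.zpowers d ⊔ pCore 3 G := htop ▸ Subgroup.mem_top x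
    have h := Subgroup.mem_map_of_mem (QuotientGroup.mk' (pCore 3 G)) hx
    rwa [Subgroup.map_sup, MonoidHom.map_zpowers, QuotientGroup.map_mk'_self, sup_bot_eq] at h
  rw [commutator_def, Subgroup.commutator_le]
  intro x _ y _
  rw [← QuotientGroup.eq_one_iff]
  show QuotientGroup.mk' (pCore 3 G) ⁅x, y⁆ = 1
  rw [map_commutatorElement, commutatorElement_eq_one_iff_commute]
  obtain ⟨i, hi⟩ := Subgroup.mem_zpowers_iff.1 (hq x)
  obtain ⟨j, hj⟩ := Subgroup.mem_zpowers_iff.1 (hq y)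
  rw [← hi, ← hj]
  exact Commute.zpow_zpow_self _ i j

theorem card_commutator (hD : IsThreeTranspositionClass D) {d : G} (hd : d ∈ D)
    (hw : ∀ a ∈ D, ∀ b ∈ D, Commute a b → a = b) (hs : IsSimpleGroup (commutator G)) :
    Nat.card (commutator G) = 3 := by
  haveI : Fact (Nat.Prime 3) := ⟨Nat.prime_three⟩
  haveI := hs
  have hP : IsPGroup 3 (commutator G) :=
    (Cfsg.Agent.Lib.Cores.pCore_isPGroup (G := G) 3).to_le (commutator_le_core hD hd hw)
  have hc : Subgroup.center (commutator G) = ⊤ := by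
    haveI := hP.center_nontrivial
    exact (Subgroup.Normal.eq_bot_or_eq_top inferInstance).resolve_left
      ((Subgroup.nontrivial_iff_ne_bot _).1 inferInstance)
  haveI : IsMulCommutative (commutator G) :=
    ⟨⟨fun a b => (Subgroup.mem_center_iff.1 (hc ▸ Subgroup.mem_top a) b).symm⟩⟩
  have hp : (Nat.card (commutator G)).Prime := IsSimpleGroup.prime_card
  obtain ⟨k, hk⟩ := IsPGroup.iff_card.1 hP
  rw [hk] at hp ⊢
  rw [Nat.Prime.eq_one_of_pow hp, pow_one]

theorem mul_mem_commutator (hD : IsThreeTranspositionClass D) {x y : G} (hx : x ∈ D) (hy : y ∈ D) :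
    x * y ∈ commutator G := by
  obtain ⟨g, hg⟩ := class_exists_conj hD hx hy
  have hcm := Subgroup.commutator_mem_commutator (Subgroup.mem_top x) (Subgroup.mem_top g)
  rw [← commutator_def, commutatorElement_def, inv_eq hD.1 hx] at hcm
  convert hcm using 1
  rw [← hg]; group

/-- the conjugation action on the class -/
def conjHom (hD : IsThreeTranspositionClass D) : G →* Equiv.Perm D where
  toFun g :=
    { toFun := fun x => ⟨g * x * g⁻¹, class_conj_mem hD g x.2⟩
      invFun := fun x => ⟨g⁻¹ * x * g, by simpa using class_conj_mem hD g⁻¹ x.2⟩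
      left_inv := fun x => Subtype.ext (by simp [mul_assoc])
      right_inv := fun x => Subtype.ext (by simp [mul_assoc]) }
  map_one' := Equiv.ext fun x => Subtype.ext (by simp)
  map_mul' g h := Equiv.ext fun x => Subtype.ext (by simp [mul_assoc])

theorem conjHom_injective (hD : IsThreeTranspositionClass D) (hZ : Subgroup.center G = ⊥) :
    Function.Injective (conjHom hD) := by
  rw [injective_iff_map_eq_one]
  intro g hg
  have hc : g ∈ Subgroup.center G := mem_center_of_commute_gen hD.2.2 fun x hx => by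
    have h : g * x * g⁻¹ = x := congrArg Subtype.val (Equiv.ext_iff.1 hg ⟨x, hx⟩)
    show Commute g x
    exact mul_inv_eq_iff_eq_mul.1 h
  rwa [hZ, Subgroup.mem_bot] at hc

theorem sym_three (hD : IsThreeTranspositionClass D) (hZ : Subgroup.center G = ⊥)
    (hs : IsSimpleGroup (commutator G)) (hw : ∀ a ∈ D, ∀ b ∈ D, Commute a b → a = b) :
    IsSymClass D 3 := by
  classical
  have hC := isClosedSet_of_class hD
  obtain ⟨d, hd, -⟩ := id hD.2.1
  have hK := card_commutator hD hd hw hs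
  have hD2 : ∃ a ∈ D, ∃ b ∈ D, a ≠ b := by
    by_contra h
    push Not at h
    have hc : d ∈ Subgroup.center G := mem_center_of_commute_gen hD.2.2 fun x hx => by
      rw [h x hx d hd]
    rw [hZ, Subgroup.mem_bot] at hc
    exact ne_one hD.1 hd hc
  obtain ⟨e₀, he₀, hde⟩ := exists_not_commute hD hD2 hd
  have hle : D.ncard ≤ 3 := by
    have hsub : D ⊆ (fun k : G => k * d) '' (commutator G : Set G) := fun x hx =>
      ⟨x * d, mul_mem_commutator hD hx hd, by simp [mul_assoc, mul_self hD.1 hd]⟩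
    refine ((Set.ncard_le_ncard hsub (Set.toFinite _)).trans (Set.ncard_image_le (Set.toFinite _))).trans ?_
    exact le_of_eq (Nat.card_coe_set_eq (commutator G : Set G) ▸ hK)
  have hge : 3 ≤ D.ncard := by
    have hsub : ({d, e₀, d * e₀ * d} : Set G) ⊆ D := by
      intro x hx
      rcases hx with rfl | rfl | rfl
      exacts [hd, he₀, third_mem hC hd he₀]
    refine le_trans (le_of_eq ?_) (Set.ncard_le_ncard hsub (Set.toFinite _))
    rw [Set.ncard_eq_three.2 ⟨d, e₀, d * e₀ * d, ne_of_not_commute hde,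
      (third_ne_left hC hd he₀ hde).symm, (third_ne_right hC hd he₀ hde).symm, rfl⟩]
  have hD3 : D.ncard = 3 := le_antisymm hle hge
  let ε : D ≃ Fin 3 := Finite.equivFinOfCardEq (by rw [Nat.card_coe_set_eq, hD3])
  let φ : G →* Equiv.Perm (Fin 3) := (ε.permCongrHom).toMonoidHom.comp (conjHom hD)
  have hinj : Function.Injective φ := ε.permCongrHom.injective.comp (conjHom_injective hD hZ)
  have h6 : Nat.card G = 6 := by
    have hle6 : Nat.card G ≤ 6 := le_of_le_of_eq (Nat.card_le_card_of_injective φ hinj)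
      (by rw [Nat.card_eq_fintype_card]; decide)
    have h2 : 2 ∣ Nat.card G := (hD.1.1 d hd) ▸ orderOf_dvd_natCard d
    have h3 : 3 ∣ Nat.card G := hK ▸ (commutator G).card_subgroup_dvd_card
    have hpos : 0 < Nat.card G := Nat.card_pos
    omega
  have hbij : Function.Bijective φ := (Nat.bijective_iff_injective_and_card φ).2
    ⟨hinj, h6.trans (by rw [Nat.card_eq_fintype_card]; decide)⟩
  refine ⟨MulEquiv.ofBijective φ hbij, Set.Subset.antisymm ?_ ?_⟩
  · rintro _ ⟨x, hx, rfl⟩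
    show (φ x).IsSwap
    refine three_sq _ (by rw [← map_mul, mul_self hD.1 hx, map_one]) fun h => ne_one hD.1 hx ?_
    exact hinj (h.trans (map_one φ).symm)
  · intro σ hσ
    obtain ⟨a, b, hab, rfl⟩ := (hσ : σ.IsSwap)
    obtain ⟨τ, hτ⟩ := three_conj (φ d) (by rw [← map_mul, mul_self hD.1 hd, map_one])
      (fun h => ne_one hD.1 hd (hinj (h.trans (map_one φ).symm))) (Equiv.swap a b)
      (Equiv.swap_mul_self a b) (fun h => hab (Equiv.swap_eq_refl_iff.1 h))
    obtain ⟨g, rfl⟩ := hbij.2 τ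
    exact ⟨g * d * g⁻¹, class_conj_mem hD g hd, by simpa using hτ⟩

/-- A class with simple derived group and trivial centre, from the main theorem. -/
theorem list_of_simple (h : Main.{u}) (hD : IsThreeTranspositionClass D) (hZ : Subgroup.center G = ⊥)
    (hs : IsSimpleGroup (commutator G)) : InList D ∨ IsSymClass D 3 := by
  by_cases hw : ∃ a ∈ D, ∃ b ∈ D, a ≠ b ∧ Commute a b
  · refine Or.inl (h G D ⟨isThreeTranspositionGroup_of_class hD, isPrimitive_of_simple hD hZ hw hs, hZ, ?_⟩)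
    obtain ⟨a, ha, b, hb, hab, hc⟩ := hw
    exact ⟨a, ha, b, hb, hab.symm, hc⟩
  · refine Or.inr (sym_three hD hZ hs fun a ha b hb hc => ?_)
    by_contra hab
    exact hw ⟨a, ha, b, hb, hab, hc⟩

/-- S5368 from the main theorem. -/
theorem derived (h : Main.{u}) (hD : IsThreeTranspositionClass D) (hZ : Subgroup.center G = ⊥)
    (hs : IsSimpleGroup (commutator G)) :
    (∃ n, IsSymClass D n) ∨ (∃ m, IsSpClass D m) ∨ (∃ n, IsUClass D n) ∨
      ((∃ m, IsOPlusClass D m) ∨ (∃ m, IsOMinusClass D m)) ∨ (∃ n, IsOrth3Class D n) ∨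
      (IsOfTypeM22 G D ∨ IsOfTypeM23 G D ∨ IsOfTypeM24 G D) := by
  rcases list_of_simple h hD hZ hs with
    ((⟨n, -, e⟩ | ⟨n, -, e⟩ | ⟨n, -, e⟩ | ⟨n, -, e⟩) | ⟨n, -, e⟩ | ⟨n, -, e⟩ | e) | e
  · exact Or.inl ⟨n, e⟩
  · exact Or.inr (Or.inl ⟨n, e⟩)
  · exact Or.inr (Or.inr (Or.inr (Or.inl (Or.inl ⟨n, e⟩))))
  · exact Or.inr (Or.inr (Or.inr (Or.inl (Or.inr ⟨n, e⟩))))
  · exact Or.inr (Or.inr (Or.inl ⟨n, e⟩))
  · exact Or.inr (Or.inr (Or.inr (Or.inr (Or.inl ⟨n, e⟩))))
  · exact Or.inr (Or.inr (Or.inr (Or.inr (Or.inr e))))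
  · exact Or.inl ⟨3, e⟩

/-- S5369 from the main theorem and node H1. -/
theorem central (h : Main.{u}) (h1 : NodeH1.{u}) (hP : Prim D) {d : G} (hd : d ∈ D)
    (h3 : LocalCentral 3 D d) (h2 : LocalCentral 2 D d) :
    (∃ n, 7 ≤ n ∧ IsSymClass D n) ∨
      ((∃ m, 3 ≤ m ∧ IsOPlusClass D m) ∨ (∃ m, 2 ≤ m ∧ IsOMinusClass D m)) ∨
      (∃ n, 5 ≤ n ∧ IsOrth3Class D n) ∨ (IsOfTypeM22 G D ∨ IsOfTypeM23 G D ∨ IsOfTypeM24 G D) := by
  obtain ⟨k2, k3⟩ := h1 G D hP d hd
  rcases h G D hP with (⟨n, hn, e⟩ | ⟨n, hn, e⟩ | ⟨n, hn, e⟩ | ⟨n, hn, e⟩) | ⟨n, hn, e⟩ | ⟨n, hn, e⟩ | e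
  · refine Or.inl ⟨n, ?_, e⟩
    by_contra h7
    rcases (show n = 5 ∨ n = 6 by omega) with rfl | rfl
    · exact k3 e h3
    · exact k2 (Or.inr (Or.inr e)) h2
  · exact absurd h2 (k2 (Or.inl ⟨n, hn, e⟩))
  · exact Or.inr (Or.inl (Or.inl ⟨n, hn, e⟩))
  · exact Or.inr (Or.inl (Or.inr ⟨n, hn, e⟩))
  · exact absurd h2 (k2 (Or.inr (Or.inl ⟨n, hn, e⟩)))
  · exact Or.inr (Or.inr (Or.inl ⟨n, hn, e⟩))
  · exact Or.inr (Or.inr (Or.inr e))

end Cfsg.Agent.Lib.FischerThm.Wrap
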