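import Cfsg.Agent.Lib.Forms.Bridge
import Cfsg.Agent.Lib.Subspaces.RankParity
import Cfsg.Prelude.Def_Classical

/-!
# The parity character of the orthogonal groups over two elements

The parity of `rank (g - 1)` in every even dimension, two included.
-/

set_option autoImplicit false
set_option linter.unusedSectionVars false

namespace Cfsg.Agent.Lib.FischerThm.Wrap

open Module QuadraticMap Cfsg.Agent.Lib.Forms Cfsg.Agent.Lib.Subspaces.RankParity

section abstr

variable {F : Type*} [Field F] {V : Type*} [AddCommGroup V] [Module F V] [FiniteDimensional F V]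
  {Q : QuadraticForm F V}

/-- The Dickson invariant is additive in every dimension. -/
theorem dickson_add (hQ : Nondeg Q) (g h : orth Q) :
    dickson Q (g * h) = dickson Q g + dickson Q h := by
  by_cases hd : finrank F V = 2
  · have he : ∀ k : orth Q, dickson (Q.prod (qPlus (F := F) 1)) (extend Q k) = dickson Q k := fun k => by
      rw [dickson, dickson, finrank_range_extend]
    have hr : finrank F (V × (Fin 1 ⊕ Fin 1 → F)) ≠ 2 := by
      rw [finrank_prod, finrank_fintype_fun_eq_card, Fintype.card_sum, Fintype.card_fin]
      omega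
    have := dickson_mul (prod_nondeg hQ (qPlus_nondeg 1)) hr (extend Q g) (extend Q h)
    rwa [← map_mul, he, he, he] at this
  · exact dickson_mul hQ hd g h

end abstr

variable {F : Type*} [Field F] {ι : Type} [Fintype ι] [DecidableEq ι]

/-- An isometry group whose rank one members cannot lie in a perfect group. -/
theorem exists_rank_char {f : (ι → F) → F} (Q : QuadraticForm F (ι → F)) (hf : ∀ v, f v = Q v)
    (hQ : Nondeg Q) :
    ∃ χ : ↥(Cfsg.isometryGroup F f) →* Multiplicative (ZMod 2), ∀ g : ↥(Cfsg.isometryGroup F f),
      (((g : GL ι F) : Matrix ι ι F) - 1).rank = 1 → χ g ≠ 1 := by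
  obtain rfl : f = ⇑Q := funext hf
  let χ : ↥(Cfsg.isometryGroup F (⇑Q)) →* Multiplicative (ZMod 2) :=
    { toFun := fun g => Multiplicative.ofAdd (dickson Q (toOrth Q g))
      map_one' := by rw [map_one, dickson_one]; rfl
      map_mul' := fun g h => by rw [map_mul, dickson_add hQ]; rfl }
  refine ⟨χ, fun g hg h => ?_⟩
  have h0 : dickson Q (toOrth Q g) = 0 := h
  have hr : Module.finrank F (LinearMap.range (dev (toOrth Q g).1)) = 1 := by
    rw [← hg]
    exact (rank_sub_one (g : GL ι F)).symm
  rw [dickson, hr] at h0
  exact absurd h0 (by decide)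

end Cfsg.Agent.Lib.FischerThm.Wrap
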