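import Cfsg.Agent.Lib.FischerThm.Wrap.Derived
import Cfsg.Agent.Lib.FischerThm.Wrap.Parity
import Cfsg.Agent.Lib.BCGraph.Glue
import Cfsg.Agent.Lib.OrthOmega.Simple
import Cfsg.Agent.Lib.ThreeTranspositions.ReflectThree
import Cfsg.Agent.S5375
import Cfsg.Agent.S5374

/-!
# Fischer's theorem: the perfect members of the list (S0480)

The symmetric groups, the orthogonal groups over two elements and type M(24) have a subgroup of
index two; a perfect reflection group over three elements has odd dimension and is `PΩ` of the odd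
form; types M(22) and M(23) have the orders of the Fischer groups.
-/

set_option autoImplicit false
set_option linter.style.haveILetI false
set_option linter.unusedSectionVars false

namespace Cfsg.Agent.Lib.FischerThm.Wrap

open Cfsg Cfsg.Agent.Lib.ThreeTranspositions Module

universe u

variable {G : Type u} [Group G] [Finite G] {D : Set G}

theorem char_eq_one (hp : commutator G = ⊤) {A : Type*} [CommGroup A] (χ : G →* A) (g : G) : χ g = 1 :=
  Abelianization.commutator_subset_ker χ (hp ▸ Subgroup.mem_top g)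

theorem not_sym (hp : commutator G = ⊤) (hne : D.Nonempty) {n : ℕ} : ¬ IsSymClass D n := by
  rintro ⟨e, he⟩
  obtain ⟨d, hd⟩ := hne
  have hs : (e d).IsSwap := by
    have h : e d ∈ e '' D := Set.mem_image_of_mem e hd
    rw [he] at h
    exact h
  have h1 := char_eq_one hp (Equiv.Perm.sign.comp e.toMonoidHom) d
  rw [MonoidHom.comp_apply, MulEquiv.coe_toMonoidHom, hs.sign_eq] at h1
  exact absurd h1 (by decide)

theorem not_orth_two (hp : commutator G = ⊤) (hne : D.Nonempty) {ι : Type} [Fintype ι] [DecidableEq ι]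
    {f : (ι → ZMod 2) → ZMod 2} (Q : QuadraticForm (ZMod 2) (ι → ZMod 2)) (hf : ∀ v, f v = Q v)
    (hQ : Forms.Nondeg Q) (e : G ≃* ↥(isometryGroup (ZMod 2) f))
    (he : e '' D = {g : ↥(isometryGroup (ZMod 2) f) |
      (((g : GL ι (ZMod 2)) : Matrix ι ι (ZMod 2)) - 1).rank = 1}) : False := by
  obtain ⟨d, hd⟩ := hne
  obtain ⟨χ, hχ⟩ := exists_rank_char Q hf hQ
  have h : e d ∈ e '' D := Set.mem_image_of_mem e hd
  rw [he] at h
  exact hχ _ h (char_eq_one hp (χ.comp e.toMonoidHom) d)

theorem not_oplus (hp : commutator G = ⊤) (hne : D.Nonempty) {m : ℕ} : ¬ IsOPlusClass D m :=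
  fun ⟨e, he⟩ => not_orth_two hp hne (Forms.qPlus m) (Forms.qPlus_eq m) (Forms.qPlus_nondeg m) e he

theorem not_ominus (hp : commutator G = ⊤) (hne : D.Nonempty) {m : ℕ} : ¬ IsOMinusClass D m :=
  fun ⟨e, he⟩ => not_orth_two hp hne (Forms.qMinus m 1 1) (fun v => (Forms.qMinus_apply m 1 1 v).symm)
    (Forms.qMinus_nondeg m (by decide)) e he

theorem not_m24 (hp : commutator G = ⊤) (hD : IsThreeTranspositionGroup D)
    (hprim : IsPrimitiveUnderConj D) (ht : IsOfTypeM24 G D) : False := by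
  obtain ⟨Q, iQ, iQ', E, Q₂, i₂, i₂', E₂, F, iF, iF', S22, S23, hM, ⟨S⟩⟩ :=
    Lib.FischerMTypes.M24Data.exists_step hD hprim ht
  have P := Lib.FischerMTypes.M24Data.pinned S22 S23 hM ht S
  obtain ⟨a, ha, -⟩ := hprim.2.1
  exact Lib.FischerMTypes.ParityM24.parity S22 S23 S hM P ha (hp ▸ Subgroup.mem_top a)

theorem isFi22 [IsSimpleGroup G] (hD : IsThreeTranspositionGroup D) (hprim : IsPrimitiveUnderConj D)
    (ht : IsOfTypeM22 G D) : IsFi22 G := by
  obtain ⟨F, _, _, ⟨S⟩⟩ := Lib.FischerMTypes.TraceCounts.exists_sys hD hprim ht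
  exact ⟨inferInstance, (Lib.FischerMTypes.OrderWidth.card_group S).trans (by norm_num)⟩

theorem isFi23 [IsSimpleGroup G] (hD : IsThreeTranspositionGroup D) (hprim : IsPrimitiveUnderConj D)
    (ht : IsOfTypeM23 G D) : IsFi23 G := by
  obtain ⟨Q, iQ, iQ', E, F, iF, iF', S22, ⟨S⟩⟩ := Lib.FischerMTypes.M23Data.exists_step hD hprim ht
  have P := Lib.FischerMTypes.M23Data.pinned hD hprim ht S22 S
  refine ⟨inferInstance, ?_⟩
  rw [S.card_group P, S.ncard_class P (F := 28160) (by norm_num),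
    Lib.FischerMTypes.OrderWidth.card_group S22]
  norm_num

section Reflection

variable {n : ℕ} {Q : QuadraticForm (ZMod 3) (Fin n → ZMod 3)} {c : ZMod 3}

open Cfsg.Agent.Lib.Forms Cfsg.Agent.Lib.ThreeTranspositions.ReflectThree Cfsg.Agent.Lib.OrthOmega
open Cfsg.Agent.Lib.Forms.SquareClass (classSet)

theorem two_ne_one : (2 : ZMod 3) ≠ 1 := by decide

theorem dickson_neg (g : orth Q) (hg : ∀ z, g.1 z = -z) : dickson Q g = (n : ZMod 2) := by
  have h : LinearMap.range (dev g.1) = ⊤ := LinearMap.range_eq_top.2 fun z => ⟨z, by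
    rw [dev_apply, hg]
    ext i
    show -z i - z i = z i
    generalize z i = x
    revert x
    decide⟩
  rw [dickson, h, finrank_top, finrank_fin_fun]

/-- a perfect projective reflection group has odd dimension and is `PΩ` of the odd form -/
theorem pOmega_of_perfect [IsSimpleGroup G] (hZ : Subgroup.center G = ⊥) (hp : commutator G = ⊤)
    (hn : 5 ≤ n) (h : IsOrth3With D Q c) :
    ∃ m : ℕ, Nonempty (G ≃* Cfsg.POmega (ZMod 3) (Cfsg.quadFormOdd m (ZMod 3))) := by
  obtain ⟨hQ0, hc, e, -⟩ := h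
  have hQ : Nondeg Q := (nondeg_iff Q).1 hQ0
  haveI : Fact (Nat.Prime 3) := ⟨Nat.prime_three⟩
  have h5 := five_le hn
  set R := Cfsg.reflectionSubgroup (⇑Q) c with hR
  set φ := toOrthHom Q c with hφdef
  have hφ : Function.Injective φ := toOrthHom_injective Q c
  have hr : φ.range = Subgroup.closure (classSet Q c) := range_toOrthHom Q c
  let π : ↥R →* G := e.symm.toMonoidHom.comp (QuotientGroup.mk' (Subgroup.center ↥R))
  have hπ : Function.Surjective π := e.symm.surjective.comp (QuotientGroup.mk'_surjective _)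
  have hπker : ∀ z, π z = 1 → z ∈ Subgroup.center ↥R := fun z hz =>
    (QuotientGroup.eq_one_iff z).1 (e.symm.injective (hz.trans (map_one e.symm).symm))
  have himg : (commutator ↥R).map π = ⊤ := by
    rw [commutator_def, Subgroup.map_commutator, Subgroup.map_top_of_surjective π hπ, ← commutator_def, hp]
  -- a central element outside the derived group is minus one
  obtain ⟨v, hv⟩ := exists_mem_level hQ h5 (c := c)
  obtain ⟨a, ha⟩ := exists_preimage hQ h5 hc φ hφ hr hv
  have ha' : a ∉ commutator ↥R := fun h => orefl_notMem_EG hQ h5 (hv ▸ hc) (by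
    rw [← ha]
    rwa [commutator_eq hQ h5 hc φ hφ hr, Subgroup.mem_comap] at h)
  obtain ⟨k, hk, hka⟩ : π a ∈ (commutator ↥R).map π := himg ▸ Subgroup.mem_top _
  have hz : k⁻¹ * a ∈ Subgroup.center ↥R := hπker _ (by rw [map_mul, map_inv, hka, inv_mul_cancel])
  have hneg : ∀ z, (φ (k⁻¹ * a)).1 z = -z := by
    have key : ∀ (e' w : Fin n → ZMod 3) (hw : SPair Q e' w),
        φ (k⁻¹ * a) * rho hw = rho hw * φ (k⁻¹ * a) := by
      intro e' w hw
      obtain ⟨y, hy⟩ : rho hw ∈ φ.range := hr ▸ eg_le hQ h5 hc (rho_mem hw)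
      rw [← hy, ← map_mul, ← map_mul, Subgroup.mem_center_iff.1 hz y]
    rcases scalar_of_lines hQ (by omega) fun e' he' => line_of_central hQ (by omega) key he' with h | h
    · have h1 : φ (k⁻¹ * a) = 1 := orth_ext fun z => h z
      have h2 := hφ (h1.trans (map_one φ).symm)
      exact absurd ((inv_mul_eq_one.1 h2) ▸ hk) ha'
    · exact h
  have hodd : (n : ZMod 2) = 1 := by
    let χ := dicksonHom hQ (Or.inl ⟨(2 : ZMod 3), two_ne, two_ne_one⟩)
    have hk1 : χ (φ k) = 1 :=
      Abelianization.commutator_subset_ker χ (by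
        rw [commutator_eq_EG hQ h5]
        rw [commutator_eq hQ h5 hc φ hφ hr] at hk
        exact hk)
    have ha1 : χ (φ a) = Multiplicative.ofAdd (1 : ZMod 2) := by
      rw [ha]; exact dicksonHom_orefl hQ _ (hv ▸ hc)
    have h1 : χ (φ (k⁻¹ * a)) = Multiplicative.ofAdd (n : ZMod 2) := by
      show Multiplicative.ofAdd (dickson Q (φ (k⁻¹ * a))) = _
      rw [dickson_neg _ hneg]
    rw [map_mul, map_mul, map_inv, map_inv, hk1, ha1, inv_one, one_mul] at h1
    exact (Multiplicative.ofAdd.injective h1).symm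
  obtain ⟨m, hm⟩ : Odd n := ZMod.natCast_eq_one_iff_odd.1 hodd
  refine ⟨m, ?_⟩
  -- the derived group modulo its centre
  let ψ : ↥(commutator ↥R) →* G := π.comp (commutator ↥R).subtype
  have hψ : Function.Surjective ψ := fun g => by
    obtain ⟨x, hx, hxg⟩ : g ∈ (commutator ↥R).map π := himg ▸ Subgroup.mem_top g
    exact ⟨⟨x, hx⟩, hxg⟩
  have hker : ψ.ker = Subgroup.center ↥(commutator ↥R) := by
    refine le_antisymm (fun x hx => ?_) fun x hx => ?_
    · have h := hπker _ (MonoidHom.mem_ker.1 hx)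
      exact Subgroup.mem_center_iff.2 fun y => Subtype.ext (Subgroup.mem_center_iff.1 h y)
    · have h : ψ x ∈ Subgroup.center G := Subgroup.mem_center_iff.2 fun g => by
        obtain ⟨y, rfl⟩ := hψ g
        rw [← map_mul, ← map_mul, Subgroup.mem_center_iff.1 hx y]
      rw [hZ, Subgroup.mem_bot] at h
      exact MonoidHom.mem_ker.2 h
  obtain ⟨g⟩ := BCGraph.nonempty_orth_mulEquiv_odd hQ (n := m) (by rw [finrank_fin_fun]; omega)
  have hmap : (commutator ↥R).map φ = EG Q := by
    rw [commutator_eq hQ h5 hc φ hφ hr, Subgroup.map_comap_eq, hr]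
    exact inf_eq_right.2 (eg_le hQ h5 hc)
  let o := OrthOmega.omegaEquiv (OrthStd.qOddC m (ZMod 3)) (OrthStd.quadFormOdd_eq m)
  let E : ↥(commutator ↥R) ≃* ↥(Cfsg.Omega (ZMod 3) (Cfsg.quadFormOdd m (ZMod 3))) :=
    (((((commutator ↥R).equivMapOfInjective φ hφ).trans
      (MulEquiv.subgroupCongr (hmap.trans (commutator_eq_EG hQ h5).symm))).trans
      ((commutator (orth Q)).equivMapOfInjective _ g.injective)).trans
      (MulEquiv.subgroupCongr (map_commutator_equiv g))).trans o.symm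
  exact ⟨((QuotientGroup.quotientKerEquivOfSurjective ψ hψ).symm.trans
    (QuotientGroup.quotientMulEquivOfEq hker)).trans
    (QuotientGroup.congr _ _ E (OrthOmega.map_center_mulEquiv E))⟩

end Reflection

/-- S0480 from the main theorem. -/
theorem simple_list (h : Main.{u}) [IsSimpleGroup G] (hna : ∃ x y : G, x * y ≠ y * x)
    (hD : IsThreeTranspositionClass D) :
    (∃ n : ℕ, Nonempty (G ≃* Matrix.symplecticGroup (Fin n) (ZMod 2))) ∨
      (∃ (F : Type) (_ : Field F) (_ : Fintype F) (n : ℕ),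
        Fintype.card F = 4 ∧ Nonempty (G ≃* Cfsg.PSU n F 2)) ∨
      (∃ m : ℕ, Nonempty (G ≃* Cfsg.POmega (ZMod 3) (Cfsg.quadFormOdd m (ZMod 3)))) ∨
      Cfsg.IsFi22 G ∨ Cfsg.IsFi23 G := by
  obtain ⟨x, y, hxy⟩ := hna
  have hp : commutator G = ⊤ := by
    refine (Subgroup.Normal.eq_bot_or_eq_top inferInstance).resolve_left fun h => hxy ?_
    have hm := Subgroup.commutator_mem_commutator (Subgroup.mem_top x) (Subgroup.mem_top y)
    rw [← commutator_def, h, Subgroup.mem_bot, commutatorElement_eq_one_iff_commute] at hm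
    exact hm
  have hZ : Subgroup.center G = ⊥ := by
    refine (Subgroup.Normal.eq_bot_or_eq_top inferInstance).resolve_right fun h => hxy ?_
    exact Subgroup.mem_center_iff.1 (h ▸ Subgroup.mem_top y) x
  have hs : IsSimpleGroup (commutator G) := by
    rw [hp]; exact Subgroup.topEquiv.isSimpleGroup
  obtain ⟨d, hd, -⟩ := id hD.2.1
  have hne : D.Nonempty := ⟨d, hd⟩
  have hgrp := isThreeTranspositionGroup_of_class hD
  rcases list_of_simple h hD hZ hs with hl | e
  · have hprim : IsPrimitiveUnderConj D := by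
      obtain ⟨a, ha, b, hb, hab⟩ | hno := Classical.em (∃ a ∈ D, ∃ b ∈ D, a ≠ b ∧ Commute a b)
      · exact isPrimitive_of_simple hD hZ ⟨a, ha, b, hb, hab⟩ hs
      · exact absurd (sym_three hD hZ hs fun a ha b hb hc => by
          by_contra hab
          exact hno ⟨a, ha, b, hb, hab, hc⟩) (not_sym hp hne)
    rcases hl with (⟨n, -, e⟩ | ⟨n, -, e⟩ | ⟨n, -, e⟩ | ⟨n, -, e⟩) | ⟨n, -, e⟩ | ⟨n, hn, e⟩ | e | e | e
    · exact absurd e (not_sym hp hne)
    · exact Or.inl ⟨n, ⟨e.choose⟩⟩
    · exact absurd e (not_oplus hp hne)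
    · exact absurd e (not_ominus hp hne)
    · obtain ⟨F, i1, i2, hF, e, -⟩ := e
      exact Or.inr (Or.inl ⟨F, i1, i2, n, hF, ⟨e⟩⟩)
    · obtain ⟨Q, c, e⟩ := e
      exact Or.inr (Or.inr (Or.inl (pOmega_of_perfect hZ hp hn e)))
    · exact Or.inr (Or.inr (Or.inr (Or.inl (isFi22 hgrp hprim e))))
    · exact Or.inr (Or.inr (Or.inr (Or.inr (isFi23 hgrp hprim e))))
    · exact (not_m24 hp hgrp hprim e).elim
  · exact absurd e (not_sym hp hne)

end Cfsg.Agent.Lib.FischerThm.Wrap
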